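import Cfsg.Agent.Lib.Blocks.DefectGroup
import Cfsg.Agent.Lib.BrauerMap.Normal
import Cfsg.Agent.Lib.BrauerMap.Nilpotent
import Cfsg.Agent.Lib.BlocksChars5.Basic
import Cfsg.Agent.Lib.PSolvable.HallHigman
import Cfsg.Agent.Lib.Characters.Linear
import Cfsg.Agent.Lib.Clifford.Basic

/-!
# Central characters of a central extension of a group with self-centralizing p-core
-/

set_option autoImplicit false

namespace Cfsg.Agent.Lib.BlockOverCore.Central

open Cfsg.Agent.Lib.Characters.Basic Cfsg.Agent.Lib.Characters.Linear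
open Cfsg.Agent.Lib Cfsg.Agent.Lib.BrauerMap.ClassSum

attribute [local instance] Ideal.Quotient.field

universe u v

variable {X : Type u} [Group X] [Finite X] {Y : Type v} [Group Y] [Finite Y]
  {M : Ideal Cfsg.AlgInt} [M.IsMaximal] {p : ℕ} [Fact p.Prime]

/-- The p-core of a central extension covers the p-core of the quotient. -/
theorem pCore_le_map (q : X →* Y) (hq : Function.Surjective q)
    (hK : q.ker ≤ Subgroup.center X) : Cfsg.pCore p Y ≤ (Cfsg.pCore p X).map q := by
  classical
  set T : Subgroup X := (Cfsg.pCore p Y).comap q with hT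
  haveI hTn : T.Normal := (inferInstance : (Cfsg.pCore p Y).Normal).comap q
  obtain ⟨P⟩ : Nonempty (Sylow p T) := inferInstance
  have hmapT : T.map q = Cfsg.pCore p Y := Subgroup.map_comap_eq_self_of_surjective hq _
  have himg := PSolvable.map_sylow_eq_map_of_isPGroup q T
    (by rw [hmapT]; exact PSolvable.isPGroup_pCore) P
  have hPn : (P : Subgroup T).Normal := ⟨fun u hu t => by
    have ht : q (t : X) ∈ ((P : Subgroup T).map T.subtype).map q := by
      rw [himg]; exact Subgroup.mem_map_of_mem q t.2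
    obtain ⟨_, ⟨v, hv, rfl⟩, hvt⟩ := ht
    have hz : (t : X) * (v : X)⁻¹ ∈ Subgroup.center X := hK (by
      rw [MonoidHom.mem_ker, map_mul, map_inv]
      show q (t : X) * (q (T.subtype v))⁻¹ = 1
      rw [hvt, mul_inv_cancel])
    have : t * u * t⁻¹ = v * u * v⁻¹ := by
      apply Subtype.ext
      have hc := Subgroup.mem_center_iff.mp hz ((v : X) * u * (v : X)⁻¹)
      simp only [Subgroup.coe_mul, Subgroup.coe_inv]
      calc (t : X) * u * (t : X)⁻¹
          = ((t : X) * (v : X)⁻¹) * ((v : X) * u * (v : X)⁻¹) * ((t : X) * (v : X)⁻¹)⁻¹ := by group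
        _ = (v : X) * u * (v : X)⁻¹ := by rw [← hc, mul_inv_cancel_right]
    rw [this]
    exact (P : Subgroup T).mul_mem ((P : Subgroup T).mul_mem hv hu) ((P : Subgroup T).inv_mem hv)⟩
  haveI := hPn
  haveI : (P : Subgroup T).Characteristic := P.characteristic_of_normal hPn
  have hle : (P : Subgroup T).map T.subtype ≤ Cfsg.pCore p X :=
    PSolvable.le_pCore inferInstance (P.2.map _)
  rw [← hmapT, ← himg]
  exact Subgroup.map_mono hle

/-- Scalars on the central kernel determine the central characters modulo `M`. -/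
theorem residue_ccR_indep (hM : Cfsg.IsPModular p M) (q : X →* Y) (hq : Function.Surjective q)
    (hK : q.ker ≤ Subgroup.center X)
    (hcent : Subgroup.centralizer ((Cfsg.pCore p Y : Subgroup Y) : Set Y) ≤ Cfsg.pCore p Y)
    (β₁ β₂ : Cfsg.IrrCharacter X) (μ : X → ℂ)
    (h₁ : ∀ k ∈ q.ker, ∀ y, (β₁ : X → ℂ) (k * y) = μ k * (β₁ : X → ℂ) y)
    (h₂ : ∀ k ∈ q.ker, ∀ y, (β₂ : X → ℂ) (k * y) = μ k * (β₂ : X → ℂ) y) (x : X) :
    Blocks.residue M (Blocks.ccR M β₁ x) = Blocks.residue M (Blocks.ccR M β₂ x) := by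
  classical
  haveI := Blocks.charP_residue (M := M) hM
  letI := Fintype.ofFinite X
  set O := Cfsg.pCore p X
  have hO : IsPGroup p O := PSolvable.isPGroup_pCore
  by_cases hx : x ∈ Subgroup.centralizer (O : Set X)
  swap
  · rw [← Blocks.omegaBar_classSumC, ← Blocks.omegaBar_classSumC,
      BrauerMap.Nilpotent.algHom_classSum_eq_zero hO hx,
      BrauerMap.Nilpotent.algHom_classSum_eq_zero hO hx]
  -- `x = k u`
  have hqx : q x ∈ Cfsg.pCore p Y := by
    refine hcent (Subgroup.mem_centralizer_iff.mpr fun y hy => ?_)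
    obtain ⟨u, hu, rfl⟩ := pCore_le_map q hq hK hy
    rw [← map_mul, ← map_mul, Subgroup.mem_centralizer_iff.mp hx u hu]
  obtain ⟨u, hu, huq⟩ := pCore_le_map q hq hK hqx
  obtain ⟨k, hk, rfl⟩ : ∃ k ∈ q.ker, x = k * u :=
    ⟨x * u⁻¹, by rw [MonoidHom.mem_ker, map_mul, map_inv, huq, mul_inv_cancel],
      (inv_mul_cancel_right x u).symm⟩
  have hcentral : Subgroup.centralizer ({k * u} : Set X) = Subgroup.centralizer ({u} : Set X) := by
    ext y
    have hky := Subgroup.mem_center_iff.mp (hK hk) y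
    rw [Subgroup.mem_centralizer_singleton_iff, Subgroup.mem_centralizer_singleton_iff,
      ← mul_assoc, hky, mul_assoc, mul_assoc, mul_left_cancel_iff]
  set A : Subgroup X := O ⊓ Subgroup.centralizer (O : Set X)
  haveI : O.Normal := inferInstance
  haveI : (Subgroup.centralizer (O : Set X)).Normal := Subgroup.normal_centralizer
  haveI : A.Normal := Subgroup.normal_inf_normal _ _
  letI := Fintype.ofFinite A
  have huA : u ∈ A := ⟨hu, by
    have := (Subgroup.centralizer (O : Set X)).mul_mem
      ((Subgroup.centralizer (O : Set X)).inv_mem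
        (Subgroup.center_le_centralizer _ (hK hk))) hx
    rwa [inv_mul_cancel_left] at this⟩
  have hval : ∀ β : Cfsg.IrrCharacter X,
      Blocks.residue M (Blocks.ccR M β u) =
        ((Finset.univ.filter fun h : A => IsConj u (h : X)).card : Cfsg.AlgInt ⧸ M) := by
    intro β
    obtain ⟨l, hl⟩ := Clifford.Basic.exists_constituent_restrict A β.2
    have hl1 : (l : A → ℂ) 1 = 1 := BlocksChars5.Basic.degree_eq_one_of_comm l fun a b =>
      Subtype.ext (Subgroup.mem_centralizer_iff.mp b.2.2 _ a.2.1)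
    have hint : ∀ h : A, (l : A → ℂ) h ∈ Blocks.localRing M := fun h => Blocks.char_mem_localRing l h
    have he : Blocks.ccR M β u =
        ∑ h ∈ Finset.univ.filter (fun h : A => IsConj u (h : X)),
          (⟨(l : A → ℂ) h, hint h⟩ : Blocks.localRing M) := by
      apply Subtype.ext
      rw [Blocks.coe_ccR,
        BrauerMap.Normal.centralChar_eq_of_constituent A β l hl ⟨u, huA⟩,
        BrauerMap.Normal.inducedCentralChar_eq, AddSubmonoidClass.coe_finsetSum]
      refine Finset.sum_congr (by ext; simp) fun h _ => ?_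
      rw [hl1, div_one]
    rw [he, map_sum, Finset.sum_congr rfl (g := fun _ => (1 : Cfsg.AlgInt ⧸ M)) fun h _ => ?_,
      Finset.sum_const, nsmul_eq_mul, mul_one]
    obtain ⟨j, hj⟩ := (hO.to_le inf_le_left : IsPGroup p A) h
    set r := Blocks.residue M (⟨(l : A → ℂ) h, hint h⟩ : Blocks.localRing M) with hr
    have hpow : r ^ p ^ j = 1 := by
      have h1 : (l : A → ℂ) h ^ p ^ j = 1 := by
        rw [← degOneHom_apply (isCharacter_irr l) hl1, ← Units.val_pow_eq_pow_val, ← map_pow, hj,
          map_one, Units.val_one]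
      rw [hr, ← map_pow, show (⟨(l : A → ℂ) h, hint h⟩ : Blocks.localRing M) ^ p ^ j = 1 from
        Subtype.ext (by rw [SubmonoidClass.coe_pow]; exact h1), map_one]
    have h0 : (r - 1) ^ p ^ j = 0 := by rw [sub_pow_char_pow, hpow, one_pow, sub_self]
    exact sub_eq_zero.mp (IsNilpotent.eq_zero ⟨_, h0⟩)
  have hμ : μ k ∈ Blocks.localRing M := by
    have h1 := h₁ k hk 1
    rw [mul_one] at h1
    have h2 : μ k = Cfsg.centralChar (β₁ : X → ℂ) k := by
      have hidx : (Subgroup.centralizer ({k} : Set X)).index = 1 := by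
        rw [Subgroup.index_eq_one, eq_top_iff]
        exact fun y _ => Subgroup.mem_centralizer_singleton_iff.mpr
          (Subgroup.mem_center_iff.mp (hK hk) y)
      rw [Cfsg.centralChar, hidx, Nat.cast_one, one_mul, h1,
        mul_div_cancel_right₀ _ (apply_one_ne_zero β₁)]
    rw [h2]
    exact Blocks.centralChar_mem_localRing β₁ k
  have hsplit : ∀ β : Cfsg.IrrCharacter X, (∀ y, (β : X → ℂ) (k * y) = μ k * (β : X → ℂ) y) →
      Blocks.ccR M β (k * u) = ⟨μ k, hμ⟩ * Blocks.ccR M β u := by
    intro β hβ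
    apply Subtype.ext
    rw [Blocks.coe_ccR, MulMemClass.coe_mul, Blocks.coe_ccR, Cfsg.centralChar, Cfsg.centralChar,
      hcentral, hβ]
    ring
  rw [hsplit β₁ (h₁ k hk), hsplit β₂ (h₂ k hk), map_mul, map_mul, hval, hval]

end Cfsg.Agent.Lib.BlockOverCore.Central
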