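import Cfsg.Agent.Lib.Blocks.DefectGroup
import Cfsg.Agent.Lib.BrauerMap.Covering
import Cfsg.Agent.Lib.BrauerMap.Nilpotent
import Cfsg.Agent.Lib.BlocksChars5.Basic
import Cfsg.Agent.Lib.Clifford.Basic

/-!
# The characters over an invariant character of a normal p'-subgroup: union of blocks, defect

`mem_of_sameBlock`: they form a union of blocks.
`fullDefect`: if they form one block, its defect groups are the Sylow p-subgroups.
-/

set_option autoImplicit false

namespace Cfsg.Agent.Lib.BlockOverCore.FullDefect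

open scoped ComplexConjugate
open Cfsg.Agent.Lib.Characters.Basic Cfsg.Agent.Lib.Induced.Basic Cfsg.Agent.Lib.Clifford.Basic
open Cfsg.Agent.Lib

attribute [local instance] Ideal.Quotient.field

universe u

variable {G : Type u} [Group G] [Fintype G] {M : Ideal Cfsg.AlgInt} [M.IsMaximal]
  {p : ℕ} [Fact p.Prime] (N : Subgroup G) [hN : N.Normal] [Fintype N]

omit [Fintype G] hN in
/-- In a group of order prime to `p` a block is a singleton. -/
theorem eq_of_sameBlock (hM : Cfsg.IsPModular p M) (hNp : ¬ p ∣ Nat.card N)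
    {θ ψ : Cfsg.IrrCharacter N} (h : ψ ∈ Cfsg.blockOf M (θ : N → ℂ)) : ψ = θ := by
  classical
  refine Blocks.blockOf_subset_of_memLocalRing (A := {θ}) (fun n => ?_) (Set.mem_singleton θ) h
  show Cfsg.blockCoeff {θ} n ∈ Blocks.localRing M
  rw [Cfsg.blockCoeff, finsum_mem_singleton, apply_inv (isCharacter_irr θ) n |>.symm,
    BlocksChars5.Basic.apply_one]
  exact mul_mem (Blocks.natCast_inv_mem_localRing hM hNp)
    (mul_mem (natCast_mem _ _) (Blocks.char_mem_localRing θ n⁻¹))

/-- The characters over an invariant `θ` are a union of blocks. -/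
theorem mem_of_sameBlock (hM : Cfsg.IsPModular p M) (hNp : ¬ p ∣ Nat.card N)
    (θ : Cfsg.IrrCharacter N) (hinv : ∀ g, conjC N g θ = (θ : N → ℂ))
    {χ ψ : Cfsg.IrrCharacter G}
    (h : Cfsg.SameBlock M (χ : G → ℂ) (ψ : G → ℂ))
    (hχ : Cfsg.classInner (fun n : N => (χ : G → ℂ) n) θ ≠ 0) :
    Cfsg.classInner (fun n : N => (ψ : G → ℂ) n) θ ≠ 0 := by
  obtain ⟨η, hη⟩ := exists_constituent_restrict N ψ.2
  obtain ⟨g, hg⟩ := BrauerMap.Covering.exists_conj_mem_of_constituents (M := M) N h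
    (θ := θ) (ψ := η) hχ hη
  have h1 : conjC N g η = (θ : N → ℂ) :=
    congrArg Subtype.val (eq_of_sameBlock N hM hNp hg)
  have h2 : (η : N → ℂ) = θ := by
    rw [← conjC_inv_conjC N g (η : N → ℂ), h1, hinv]
  rw [← h2]
  exact hη

/-- If they form a block its defect groups are the Sylow p-subgroups. -/
theorem fullDefect (hM : Cfsg.IsPModular p M) (hNp : ¬ p ∣ Nat.card N)
    (θ : Cfsg.IrrCharacter N) (hinv : ∀ g, conjC N g θ = (θ : N → ℂ))
    {B : Set (Cfsg.IrrCharacter G)} (hB : Cfsg.IsPBlock M B)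
    (hmem : ∀ χ : Cfsg.IrrCharacter G,
      χ ∈ B ↔ Cfsg.classInner (fun n : N => (χ : G → ℂ) n) θ ≠ 0) :
    (∀ P : Sylow p G, Cfsg.IsDefectGroup p M B (P : Subgroup G)) ∧
      ∀ D : Subgroup G, Cfsg.IsDefectGroup p M B D →
        ∃ P : Sylow p G, D = (P : Subgroup G) := by
  classical
  haveI := Blocks.charP_residue (M := M) hM
  letI := Fintype.ofFinite (Cfsg.IrrCharacter G)
  -- the idempotent
  have hcoeff : ∀ g : G, Cfsg.blockCoeff B g =
      (Nat.card G : ℂ)⁻¹ * ((θ : N → ℂ) 1 * conj (Cfsg.indFun N (θ : N → ℂ) g)) := by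
    intro g
    rw [Blocks.blockCoeff_eq_sum]
    congr 1
    conv_rhs => rw [Characters.Complete.classFunction_eq_sum
      (isClassFunction_indFun N (θ : N → ℂ))]
    rw [Finset.sum_apply, map_sum, Finset.mul_sum, Finset.sum_filter]
    refine Finset.sum_congr rfl fun χ _ => ?_
    have hco : Cfsg.classInner (Cfsg.indFun N (θ : N → ℂ)) χ =
        conj (Cfsg.classInner (fun n : N => (χ : G → ℂ) n) θ) := by
      rw [frobenius_reciprocity N _ (isClassFunction_irr χ), classInner_conj_symm]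
    rw [Pi.smul_apply, smul_eq_mul, map_mul, hco, Complex.conj_conj]
    split_ifs with hχ
    · have := congrFun (restrict_eq_smul N χ.2 θ ((hmem χ).mp hχ) hinv) 1
      rw [Pi.smul_apply, smul_eq_mul, OneMemClass.coe_one] at this
      rw [this]
      ring
    · rw [not_not.mp fun h0 => hχ ((hmem χ).mpr h0)]
      ring
  obtain ⟨g, hg⟩ := Blocks.exists_isDefectClass hB
  have hgN : g ∈ N := by
    by_contra hgN
    refine hg.2.1 ?_
    rw [hcoeff, indFun_eq_zero_of_not_mem_normal N _ hgN, map_zero, mul_zero, mul_zero]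
    exact Blocks.memLocalIdeal_zero
  obtain ⟨χ, hχB, hχg⟩ := Blocks.isDefectClass_exists_ne hB hg
  -- a conjugate centralized by a Sylow subgroup
  have key : ∀ P : Sylow p G, ∃ h : G, IsConj g h ∧
      (P : Subgroup G) ≤ Subgroup.centralizer ({h} : Set G) := by
    intro P
    by_contra hcon
    push Not at hcon
    refine hχg ?_
    have hc := BrauerMap.Normal.centralChar_eq_of_constituent N χ θ ((hmem χ).mp hχB) ⟨g, hgN⟩
    rw [hc, BrauerMap.Normal.inducedCentralChar_eq]
    have hth1 : ((θ : N → ℂ) 1)⁻¹ ∈ Blocks.localRing M := by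
      rw [BlocksChars5.Basic.apply_one]
      exact Blocks.natCast_inv_mem_localRing hM fun hd =>
        hNp (hd.trans (BlocksChars5.Basic.degree_dvd_card θ))
    let F : N → Blocks.localRing M := fun h =>
      ⟨(θ : N → ℂ) h / (θ : N → ℂ) 1, by
        rw [div_eq_mul_inv]
        exact mul_mem (Blocks.char_mem_localRing θ h) hth1⟩
    set s := Finset.univ.filter fun h : N => IsConj g (h : G)
    have hsum : ∑ h ∈ s, (θ : N → ℂ) h / (θ : N → ℂ) 1 = ((∑ h ∈ s, F h : Blocks.localRing M) : ℂ) := by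
      rw [AddSubmonoidClass.coe_finsetSum]
    rw [Finset.sum_congr (s₂ := s) (by ext; simp [s]) (fun _ _ => rfl), hsum, ← Blocks.residue_eq_zero_iff, map_sum, ← Finset.sum_coe_sort]
    have hsmem : ∀ {h : N}, h ∈ s ↔ IsConj g (h : G) := fun {h} => by simp [s]
    letI : MulAction (P : Subgroup G) s :=
      { smul := fun u h => ⟨⟨(u : G) * ((h : N) : G) * (u : G)⁻¹, hN.conj_mem _ (h : N).2 _⟩,
          hsmem.mpr ((hsmem.mp h.2).trans (isConj_iff.mpr ⟨u, rfl⟩))⟩
        one_smul := fun h => Subtype.ext (Subtype.ext (by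
          show (1 : G) * ((h : N) : G) * (1 : G)⁻¹ = _
          rw [inv_one, one_mul, mul_one]))
        mul_smul := fun u v h => Subtype.ext (Subtype.ext (by
          show ((u : G) * v) * ((h : N) : G) * ((u : G) * v)⁻¹ =
            (u : G) * ((v : G) * ((h : N) : G) * (v : G)⁻¹) * (u : G)⁻¹
          group)) }
    refine BrauerMap.Nilpotent.sum_eq_zero_of_no_fixed P.2
      (fun v => by rw [nsmul_eq_mul, CharP.cast_eq_zero, zero_mul]) _ (fun u h => ?_) ?_
    · refine congrArg _ (Subtype.ext ?_)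
      show (θ : N → ℂ) _ / (θ : N → ℂ) 1 = (θ : N → ℂ) _ / (θ : N → ℂ) 1
      congr 1
      exact congrFun (hinv (u : G)) (h : N)
    · intro h hfix
      refine hcon ((h : N) : G) (hsmem.mp h.2) fun u hu => ?_
      rw [Subgroup.mem_centralizer_singleton_iff]
      have := congrArg (fun x : s => ((x : N) : G)) (hfix ⟨u, hu⟩)
      exact mul_inv_eq_iff_eq_mul.mp this
  have hsyl : ∀ P : Sylow p G, Cfsg.IsDefectGroup p M B (P : Subgroup G) := by
    intro P
    obtain ⟨h, hgh, hP⟩ := key P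
    refine ⟨h, ⟨?_, ?_, fun ψ hψ => ?_⟩, P.subtype hP, ?_⟩
    · rw [← Blocks.blockCoeff_eq_of_isConj B hgh]; exact hg.1
    · rw [← Blocks.blockCoeff_eq_of_isConj B hgh]; exact hg.2.1
    · rw [← Blocks.centralChar_eq_of_isConj ψ hgh]; exact hg.2.2 ψ hψ
    · rw [Sylow.coe_subtype, Subgroup.map_subgroupOf_eq_of_le hP]
  refine ⟨hsyl, fun D hD => ?_⟩
  obtain ⟨P⟩ : Nonempty (Sylow p G) := inferInstance
  obtain ⟨x, hx⟩ := Blocks.isDefectGroup_conj hM hB (hsyl P) hD
  exact ⟨x • P, by rw [← hx]; rfl⟩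

end Cfsg.Agent.Lib.BlockOverCore.FullDefect
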