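import Cfsg.Agent.Lib.BlockOverCore.Central
import Cfsg.Agent.Lib.BlockOverCore.FullDefect
import Cfsg.Agent.Lib.BlocksChars5.Restrict
import Cfsg.Agent.Lib.Brauer.ProjExt
import Cfsg.Agent.Lib.Chars82.StableExtension

/-!
# One block over an invariant character

`sameBlock_over`: if `O_p(G/N)` contains its centralizer in `G/N`, any two irreducible characters
of `G` over a `G`-invariant irreducible character of `N` lie in the same p-block.
`exists_block`: with `N` of order prime to `p` they form exactly one block, of full defect.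
-/

set_option autoImplicit false

namespace Cfsg.Agent.Lib.BlockOverCore.Main

open scoped ComplexConjugate
open Cfsg.Agent.Lib.Characters.Basic Cfsg.Agent.Lib.Induced.Basic Cfsg.Agent.Lib.Clifford.Basic
open Cfsg.Agent.Lib

universe u

variable {G : Type u} [Group G]

/-- The index formula for a normal subgroup joined with any subgroup. -/
theorem relIndex_sup_normal [Finite G] (N C : Subgroup G) [N.Normal] :
    C.relIndex (N ⊔ C) = C.relIndex N := by
  have h1 : (N ⊓ C).relIndex N * N.relIndex (N ⊔ C) = (N ⊓ C).relIndex (N ⊔ C) :=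
    Subgroup.relIndex_mul_relIndex _ _ _ inf_le_left le_sup_left
  have h2 : (N ⊓ C).relIndex C * C.relIndex (N ⊔ C) = (N ⊓ C).relIndex (N ⊔ C) :=
    Subgroup.relIndex_mul_relIndex _ _ _ inf_le_right le_sup_right
  have h3 : N.relIndex (N ⊔ C) = N.relIndex C := by rw [sup_comm, Subgroup.relIndex_sup_right]
  rw [h3, Subgroup.inf_relIndex_left] at h1
  rw [Subgroup.inf_relIndex_right, ← h1, mul_comm] at h2
  exact Nat.eq_of_mul_eq_mul_right
    (Nat.pos_of_ne_zero (Subgroup.index_ne_zero_of_finite (H := N.subgroupOf C))) h2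

variable [Fintype G] {M : Ideal Cfsg.AlgInt} [M.IsMaximal] {p : ℕ} [Fact p.Prime]

/-- All characters over an invariant character lie in one block. -/
theorem sameBlock_over (hM : Cfsg.IsPModular p M) (N : Subgroup G) [hN : N.Normal] [Fintype N]
    (hcent : Subgroup.centralizer ((Cfsg.pCore p (G ⧸ N) : Subgroup (G ⧸ N)) : Set (G ⧸ N)) ≤
      Cfsg.pCore p (G ⧸ N))
    (θ : Cfsg.IrrCharacter N) (hinv : ∀ g, conjC N g θ = (θ : N → ℂ))
    (χ₁ χ₂ : Cfsg.IrrCharacter G)
    (h₁ : Cfsg.classInner (fun n : N => (χ₁ : G → ℂ) n) θ ≠ 0)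
    (h₂ : Cfsg.classInner (fun n : N => (χ₂ : G → ℂ) n) θ ≠ 0) :
    Cfsg.SameBlock M (χ₁ : G → ℂ) (χ₂ : G → ℂ) := by
  classical
  obtain ⟨d, ρ, hρ, hρc⟩ := exists_rep θ
  haveI := hρ
  have hinvρ : ∀ x : G, (Clifford.Extension.conjRep N ρ x).character = ρ.character := by
    intro x
    funext n
    show ρ.character ⟨x * n * x⁻¹, hN.conj_mem n n.2 x⟩ = ρ.character n
    rw [hρc]
    exact congrFun (hinv x) n
  set X := Brauer.ProjExt.Gam N ρ with hX
  haveI : Finite X := Brauer.ProjExt.finite_Gam N ρ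
  letI := Fintype.ofFinite X
  set pr := Brauer.ProjExt.proj N ρ with hpr
  have hprs : Function.Surjective pr := Brauer.ProjExt.proj_surjective N ρ hinvρ
  set em := Brauer.ProjExt.emb N ρ with hem
  have hprem : ∀ n : N, pr (em n) = (n : G) := fun n => rfl
  have hemcn : ∀ (γ : X) (n : N), γ * em n * γ⁻¹ = em (Brauer.ProjExt.cn N (pr γ) n) := by
    intro γ n
    apply Subtype.ext
    refine Prod.ext rfl (Units.ext ?_)
    show Brauer.ProjExt.taut N ρ γ * ρ n * Brauer.ProjExt.taut N ρ γ⁻¹ =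
      ρ (Brauer.ProjExt.cn N (pr γ) n)
    rw [Brauer.ProjExt.taut_mul, mul_assoc, ← map_mul, mul_inv_cancel, map_one, mul_one]
  have heminj : Function.Injective em := fun a b h => Subtype.ext (congrArg pr h)
  haveI hEn : em.range.Normal := ⟨by
    rintro _ ⟨n, rfl⟩ γ
    exact ⟨_, (hemcn γ n).symm⟩⟩
  set E : Subgroup X := em.range with hE
  letI := Fintype.ofFinite E
  set mk := QuotientGroup.mk' E with hmk
  have hmks : Function.Surjective mk := QuotientGroup.mk'_surjective _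
  -- the scalars
  have hsc : ∀ k ∈ pr.ker, ∃ c : ℂ, Brauer.ProjExt.taut N ρ k = c • 1 := by
    intro k hk
    refine Brauer.ProjExt.exists_scalar N ρ (g := 1) isUnit_one
      (fun n => by simp [Brauer.ProjExt.cn_one]) fun n => ?_
    have := Brauer.ProjExt.taut_mul N ρ k n
    rwa [MonoidHom.mem_ker.mp hk] at this
  have hcomm : ∀ k ∈ pr.ker, ∀ γ : X, γ * k = k * γ := by
    intro k hk γ
    obtain ⟨c, hc⟩ := hsc k hk
    apply Subtype.ext
    refine Prod.ext ?_ (Units.ext ?_)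
    · show pr γ * pr k = pr k * pr γ
      rw [MonoidHom.mem_ker.mp hk, mul_one, one_mul]
    · show Brauer.ProjExt.taut N ρ γ * Brauer.ProjExt.taut N ρ k =
        Brauer.ProjExt.taut N ρ k * Brauer.ProjExt.taut N ρ γ
      rw [hc, mul_smul_comm, mul_one, smul_mul_assoc, one_mul]
  -- the tautological character
  let τf : X → ℂ := (Brauer.ProjExt.taut N ρ).character
  have hτres : ∀ n : N, τf (em n) = (θ : N → ℂ) n := fun n => by
    rw [← hρc]; rfl
  let τ : Cfsg.IrrCharacter X :=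
    ⟨τf, Chars82.StableExtension.isIrr_of_restrict_irr em ⟨d, Brauer.ProjExt.taut N ρ, rfl⟩ θ hτres⟩
  let eE : N ≃* E := MulEquiv.ofBijective em.rangeRestrict
    ⟨fun a b h => heminj (congrArg Subtype.val h), em.rangeRestrict_surjective⟩
  have hτE : Cfsg.IsIrrCharacter E (fun x : E => τf x) := by
    have : (fun x : E => τf x) = (θ : N → ℂ) ∘ eE.symm.toMonoidHom := by
      funext x
      obtain ⟨n, rfl⟩ := eE.surjective x
      show τf (em n) = (θ : N → ℂ) (eE.symm (eE n))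
      rw [MulEquiv.symm_apply_apply, hτres]
    rw [this]
    exact isIrrCharacter_comp _ eE.symm.surjective θ.2
  have hτmul : ∀ k ∈ pr.ker, ∀ γ : X, ∀ c : ℂ, Brauer.ProjExt.taut N ρ k = c • 1 →
      τf (k * γ) = c * τf γ := by
    intro k _ γ c hc
    show LinearMap.trace ℂ _ (Brauer.ProjExt.taut N ρ (k * γ)) =
      c * LinearMap.trace ℂ _ (Brauer.ProjExt.taut N ρ γ)
    rw [map_mul, hc, smul_mul_assoc, one_mul, map_smul, smul_eq_mul]
  -- decomposition of a character over `θ`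
  have hdec : ∀ χ : Cfsg.IrrCharacter G,
      Cfsg.classInner (fun n : N => (χ : G → ℂ) n) θ ≠ 0 →
      ∃ β : Cfsg.IrrCharacter (X ⧸ E), (∀ γ, (χ : G → ℂ) (pr γ) = (β : X ⧸ E → ℂ) (mk γ) * τf γ) ∧
        ∀ k ∈ pr.ker, ∀ (c : ℂ), Brauer.ProjExt.taut N ρ k = c • 1 → ∀ y,
          (β : X ⧸ E → ℂ) (mk k * y) = c⁻¹ * (β : X ⧸ E → ℂ) y := by
    intro χ hχ
    let χ' : Cfsg.IrrCharacter X := ⟨(χ : G → ℂ) ∘ pr, isIrrCharacter_comp pr hprs χ.2⟩
    have hconj : ∀ γ : X, conjC E γ (fun x : E => τf x) = fun x : E => τf x :=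
      fun γ => conjC_restrict E (isClassFunction_irr τ) γ
    have hone : Cfsg.IsIrrCharacter E (fun _ : E => (1 : ℂ)) := (oneChar E).2
    have hprod : (fun _ : E => (1 : ℂ)) * (fun x : E => τf x) = fun x : E => τf x :=
      funext fun x => one_mul _
    obtain ⟨β₀, hβ₀, hχβ⟩ := (Clifford.Gallagher.gallagher E (fun _ : E => (1 : ℂ))
      (fun x : E => τf x) hone (fun γ => rfl) hconj (by rw [hprod]; exact hτE) τ.2
      (fun _ => rfl)).2.2 χ' (by
        rw [hprod, frobenius_reciprocity E _ (isClassFunction_irr χ')]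
        have : Cfsg.classInner (fun x : E => τf x) (fun x : E => (χ' : X → ℂ) x) =
            Cfsg.classInner (θ : N → ℂ) (fun n : N => (χ : G → ℂ) n) := by
          simp only [Cfsg.classInner, ← Nat.card_congr eE.toEquiv]
          congr 1
          refine (Fintype.sum_equiv eE.toEquiv _ _ fun n => ?_).symm
          show (θ : N → ℂ) n * conj ((χ : G → ℂ) n) = τf (em n) * conj ((χ : G → ℂ) (pr (em n)))
          rw [hτres, hprem]
        rw [this]
        exact classInner_ne_zero_symm hχ)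
    have hker : E ≤ BlocksChars5.Basic.charKer β₀ := fun x hx => by
      have := Clifford.Gallagher.apply_mul_of_over_one E β₀ hβ₀ ⟨x, hx⟩ 1
      rw [mul_one] at this
      exact this
    obtain ⟨β, hβ⟩ := BlocksChars5.Basic.exists_deflate β₀ E hker
    have hval : ∀ γ, (χ : G → ℂ) (pr γ) = (β : X ⧸ E → ℂ) (mk γ) * τf γ := by
      intro γ
      have h3 := congrFun hχβ γ
      rw [Pi.mul_apply, ← hβ, BlocksChars5.Basic.inflate_apply] at h3
      exact h3
    refine ⟨β, hval, fun k hk c hc y => ?_⟩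
    obtain ⟨n', σ, hσ, hσc⟩ := exists_rep β
    haveI := hσ
    obtain ⟨e, he⟩ := Clifford.Rep.schur σ (σ (mk k)) fun y => by
      obtain ⟨γ, rfl⟩ := hmks y
      rw [← map_mul, ← map_mul, ← map_mul, ← map_mul, hcomm k hk γ]
    have hmul : ∀ y, (β : X ⧸ E → ℂ) (mk k * y) = e * (β : X ⧸ E → ℂ) y := by
      intro y
      rw [← hσc]
      show LinearMap.trace ℂ _ (σ (mk k * y)) = e * LinearMap.trace ℂ _ (σ y)
      rw [map_mul, he, smul_mul_assoc, one_mul, map_smul, smul_eq_mul]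
    rw [hmul]
    congr 1
    have h1 := hval k
    have h2 := hval 1
    rw [MonoidHom.mem_ker.mp hk] at h1
    rw [map_one pr, map_one mk] at h2
    have h3 : τf k = c * τf 1 := by
      have := hτmul k hk 1 c hc
      rwa [mul_one] at this
    have h4 : (β : X ⧸ E → ℂ) (mk k) = e * (β : X ⧸ E → ℂ) 1 := by
      have := hmul 1
      rwa [mul_one] at this
    rw [h4, h3, h2] at h1
    have hne : (β : X ⧸ E → ℂ) 1 * τf 1 ≠ 0 :=
      mul_ne_zero (apply_one_ne_zero β) (apply_one_ne_zero τ)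
    have h5 : e * c = 1 := by
      refine mul_right_cancel₀ hne ?_
      rw [one_mul]
      linear_combination h1.symm
    exact eq_inv_of_mul_eq_one_left h5
  obtain ⟨β₁, hβ₁, hμ₁⟩ := hdec χ₁ h₁
  obtain ⟨β₂, hβ₂, hμ₂⟩ := hdec χ₂ h₂
  -- the quotient map
  let q : X ⧸ E →* G ⧸ N := QuotientGroup.lift E ((QuotientGroup.mk' N).comp pr) (by
    rintro _ ⟨n, rfl⟩
    exact (QuotientGroup.eq_one_iff _).mpr n.2)
  have hqmk : ∀ γ, q (mk γ) = (pr γ : G ⧸ N) := fun γ => rfl
  have hqs : Function.Surjective q := fun y => by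
    obtain ⟨g, rfl⟩ := QuotientGroup.mk_surjective y
    obtain ⟨γ, rfl⟩ := hprs g
    exact ⟨mk γ, rfl⟩
  have hqker : ∀ y ∈ q.ker, ∃ k ∈ pr.ker, mk k = y := by
    intro y hy
    obtain ⟨γ, rfl⟩ := hmks y
    have hγ : pr γ ∈ N := (QuotientGroup.eq_one_iff _).mp hy
    refine ⟨γ * (em ⟨pr γ, hγ⟩)⁻¹, by
      rw [MonoidHom.mem_ker, map_mul, map_inv, hprem, mul_inv_cancel], ?_⟩
    rw [map_mul, map_inv, show mk (em ⟨pr γ, hγ⟩) = 1 from
      (QuotientGroup.eq_one_iff _).mpr ⟨_, rfl⟩, inv_one, mul_one]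
  have hqK : q.ker ≤ Subgroup.center (X ⧸ E) := fun y hy => by
    obtain ⟨k, hk, rfl⟩ := hqker y hy
    rw [Subgroup.mem_center_iff]
    intro z
    obtain ⟨γ, rfl⟩ := hmks z
    rw [← map_mul, ← map_mul, hcomm k hk γ]
  let μ : X ⧸ E → ℂ := fun y => (β₁ : X ⧸ E → ℂ) y / (β₁ : X ⧸ E → ℂ) 1
  have hμ : ∀ y ∈ q.ker, (∀ z, (β₁ : X ⧸ E → ℂ) (y * z) = μ y * (β₁ : X ⧸ E → ℂ) z) ∧
      ∀ z, (β₂ : X ⧸ E → ℂ) (y * z) = μ y * (β₂ : X ⧸ E → ℂ) z := by
    intro y hy
    obtain ⟨k, hk, rfl⟩ := hqker y hy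
    obtain ⟨c, hc⟩ := hsc k hk
    have he : μ (mk k) = c⁻¹ := by
      have := hμ₁ k hk c hc 1
      rw [mul_one] at this
      show (β₁ : X ⧸ E → ℂ) (mk k) / (β₁ : X ⧸ E → ℂ) 1 = c⁻¹
      rw [this, mul_div_cancel_right₀ _ (apply_one_ne_zero β₁)]
    exact ⟨fun z => by rw [he]; exact hμ₁ k hk c hc z, fun z => by rw [he]; exact hμ₂ k hk c hc z⟩
  intro g
  obtain ⟨γ, rfl⟩ := hprs g
  have hres := Central.residue_ccR_indep (M := M) hM q hqs hqK hcent β₁ β₂ μ
    (fun y hy => (hμ y hy).1) (fun y hy => (hμ y hy).2) (mk γ)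
  -- a fused class gives zero
  by_cases hfuse : ∃ k ∈ pr.ker, k ≠ 1 ∧ IsConj (mk γ) (mk k * mk γ)
  · obtain ⟨k, hk, hk1, hconj⟩ := hfuse
    obtain ⟨c, hc⟩ := hsc k hk
    have hc1 : c ≠ 1 := by
      rintro rfl
      refine hk1 (Subtype.ext (Prod.ext (MonoidHom.mem_ker.mp hk) (Units.ext ?_)))
      show Brauer.ProjExt.taut N ρ k = 1
      rw [hc, one_smul]
    have hzero : ∀ β : Cfsg.IrrCharacter (X ⧸ E),
        (∀ y, (β : X ⧸ E → ℂ) (mk k * y) = c⁻¹ * (β : X ⧸ E → ℂ) y) →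
        (β : X ⧸ E → ℂ) (mk γ) = 0 := by
      intro β hβ
      have h5 : (β : X ⧸ E → ℂ) (mk γ) = c⁻¹ * (β : X ⧸ E → ℂ) (mk γ) :=
        (BlocksChars5.Basic.eq_of_isConj β hconj).symm.trans (hβ (mk γ))
      by_contra hne
      have : (c⁻¹ : ℂ) = 1 := mul_right_cancel₀ hne (by rw [one_mul]; exact h5.symm)
      exact hc1 (inv_eq_one.mp this)
    rw [Cfsg.centralChar, Cfsg.centralChar, hβ₁, hβ₂, hzero β₁ (hμ₁ k hk c hc),
      hzero β₂ (hμ₂ k hk c hc)]
    simp only [zero_mul, mul_zero, zero_div, sub_zero]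
    exact Blocks.memLocalIdeal_zero
  push Not at hfuse
  -- indices
  set C : Subgroup G := Subgroup.centralizer ({pr γ} : Set G) with hC
  set C' : Subgroup G := (Subgroup.centralizer ({(pr γ : G ⧸ N)} : Set (G ⧸ N))).comap
    (QuotientGroup.mk' N) with hC'
  have hNC' : N ≤ C' := fun n hn => by
    rw [hC', Subgroup.mem_comap, QuotientGroup.mk'_apply, (QuotientGroup.eq_one_iff n).mpr hn]
    exact Subgroup.one_mem _
  have hCC' : C ≤ C' := fun y hy => by
    rw [hC', Subgroup.mem_comap, Subgroup.mem_centralizer_singleton_iff, QuotientGroup.mk'_apply,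
      ← QuotientGroup.mk_mul, ← QuotientGroup.mk_mul, Subgroup.mem_centralizer_singleton_iff.mp hy]
  have hcX : (Subgroup.centralizer ({mk γ} : Set (X ⧸ E))).index = C'.index := by
    rw [hC', Subgroup.index_comap_of_surjective _ (QuotientGroup.mk'_surjective N),
      ← Subgroup.index_comap_of_surjective (Subgroup.centralizer ({(pr γ : G ⧸ N)} : Set (G ⧸ N))) hqs]
    congr 1
    ext y
    rw [Subgroup.mem_comap, Subgroup.mem_centralizer_singleton_iff,
      Subgroup.mem_centralizer_singleton_iff, ← hqmk γ, ← map_mul, ← map_mul]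
    refine ⟨fun h => congrArg q h, fun h => ?_⟩
    obtain ⟨k, hk, hkm⟩ := hqker (y * mk γ * y⁻¹ * (mk γ)⁻¹) (by
      rw [MonoidHom.mem_ker, map_mul, map_inv, map_mul, map_inv, h, map_mul, mul_inv_cancel_right,
        mul_inv_cancel])
    by_cases hk1 : k = 1
    · rw [hk1, map_one] at hkm
      exact mul_inv_eq_iff_eq_mul.mp (mul_inv_eq_one.mp hkm.symm)
    · refine absurd (isConj_iff.mpr ⟨y, ?_⟩) (hfuse k hk hk1)
      rw [hkm, inv_mul_cancel_right]
  set CX : Subgroup X := Subgroup.centralizer ({γ} : Set X) with hCX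
  have hCXE : CX.relIndex E = C.relIndex N := by
    have h1 : CX.comap em = C.subgroupOf N := by
      ext n
      rw [Subgroup.mem_comap, Subgroup.mem_subgroupOf, hCX, hC,
        Subgroup.mem_centralizer_singleton_iff, Subgroup.mem_centralizer_singleton_iff]
      constructor
      · intro h
        have := congrArg pr h
        rwa [map_mul, map_mul, hprem] at this
      · intro h
        have h2 : γ * em n * γ⁻¹ = em n := by
          rw [hemcn]
          refine congrArg em (Subtype.ext ?_)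
          show pr γ * n * (pr γ)⁻¹ = n
          rw [← h, mul_inv_cancel_right]
        exact (mul_inv_eq_iff_eq_mul.mp h2).symm
    have h2 := Subgroup.relIndex_comap CX em ⊤
    rw [← MonoidHom.range_eq_map, h1, Subgroup.relIndex_top_right] at h2
    exact h2.symm
  obtain ⟨m, hm⟩ : C.relIndex N ∣ C.relIndex C' := by
    rw [← relIndex_sup_normal N C]
    exact Dvd.intro _ (Subgroup.relIndex_mul_relIndex C (N ⊔ C) C' le_sup_right
      (sup_le hNC' hCC'))
  -- the second factor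
  set R : Subgroup X := E ⊔ Subgroup.zpowers γ with hR
  letI := Fintype.ofFinite R
  have hγR : γ ∈ R := Subgroup.mem_sup_right (Subgroup.mem_zpowers γ)
  let emR : N →* R := em.codRestrict R fun n => Subgroup.mem_sup_left ⟨n, rfl⟩
  let τR : Cfsg.IrrCharacter R :=
    ⟨fun r => τf r, Chars82.StableExtension.isIrr_of_restrict_irr emR
      ⟨d, (Brauer.ProjExt.taut N ρ).comp R.subtype, rfl⟩ θ hτres⟩
  have hidxR : (Subgroup.centralizer ({⟨γ, hγR⟩} : Set R)).index = C.relIndex N := by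
    have h1 : Subgroup.centralizer ({⟨γ, hγR⟩} : Set R) = CX.subgroupOf R := by
      ext r
      rw [Subgroup.mem_subgroupOf, Subgroup.mem_centralizer_singleton_iff, hCX,
        Subgroup.mem_centralizer_singleton_iff]
      exact ⟨fun h => congrArg Subtype.val h, fun h => Subtype.ext h⟩
    have h2 : E ⊔ (CX ⊓ R) = R := by
      refine le_antisymm (sup_le le_sup_left inf_le_right) (sup_le le_sup_left ?_)
      rw [Subgroup.zpowers_le]
      exact Subgroup.mem_sup_right ⟨Subgroup.mem_centralizer_singleton_iff.mpr rfl, hγR⟩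
    have h3 : (CX ⊓ R).relIndex R = (CX ⊓ R).relIndex E := by
      have := relIndex_sup_normal E (CX ⊓ R)
      rwa [h2] at this
    rw [h1]
    show CX.relIndex R = _
    rw [← Subgroup.inf_relIndex_right, h3, ← Subgroup.inf_relIndex_right, inf_assoc,
      inf_eq_right.mpr (le_sup_left : E ≤ R), Subgroup.inf_relIndex_right, hCXE]
  let A : Blocks.localRing M :=
    ⟨(m : ℂ) * Cfsg.centralChar (τR : R → ℂ) ⟨γ, hγR⟩,
      mul_mem (natCast_mem _ m) (Blocks.centralChar_mem_localRing τR _)⟩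
  have hprod : ∀ (χ : Cfsg.IrrCharacter G) (β : Cfsg.IrrCharacter (X ⧸ E)),
      (∀ γ, (χ : G → ℂ) (pr γ) = (β : X ⧸ E → ℂ) (mk γ) * τf γ) →
      Blocks.ccR M χ (pr γ) = Blocks.ccR M β (mk γ) * A := by
    intro χ β hβ
    apply Subtype.ext
    rw [Blocks.coe_ccR, MulMemClass.coe_mul, Blocks.coe_ccR]
    show Cfsg.centralChar _ _ = _ * ((m : ℂ) * Cfsg.centralChar (τR : R → ℂ) ⟨γ, hγR⟩)
    have hone' : (χ : G → ℂ) 1 = (β : X ⧸ E → ℂ) 1 * τf 1 := by
      have := hβ 1
      rwa [map_one pr, map_one mk] at this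
    rw [Cfsg.centralChar, Cfsg.centralChar, Cfsg.centralChar, hidxR, hcX, hβ, hone', ← hC,
      ← Subgroup.relIndex_mul_index hCC', hm]
    show _ = _ * (_ * (_ * τf γ / τf 1))
    have : τf 1 ≠ 0 := apply_one_ne_zero τ
    have : (β : X ⧸ E → ℂ) 1 ≠ 0 := apply_one_ne_zero β
    push_cast
    field_simp
  show Cfsg.MemLocalIdeal M _
  rw [← Blocks.coe_ccR (M := M) χ₁, ← Blocks.coe_ccR (M := M) χ₂, ← AddSubgroupClass.coe_sub,
    ← Blocks.residue_eq_zero_iff, map_sub, hprod χ₁ β₁ hβ₁, hprod χ₂ β₂ hβ₂, map_mul, map_mul,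
    hres, sub_self]

/-- They form one block of full defect. -/
theorem exists_block (hM : Cfsg.IsPModular p M) (N : Subgroup G) [N.Normal] [Fintype N]
    (hNp : ¬ p ∣ Nat.card N)
    (hcent : Subgroup.centralizer ((Cfsg.pCore p (G ⧸ N) : Subgroup (G ⧸ N)) : Set (G ⧸ N)) ≤
      Cfsg.pCore p (G ⧸ N))
    (θ : Cfsg.IrrCharacter N) (hinv : ∀ g, conjC N g θ = (θ : N → ℂ)) :
    ∃ B : Set (Cfsg.IrrCharacter G), Cfsg.IsPBlock M B ∧
      (∀ χ : Cfsg.IrrCharacter G,
        χ ∈ B ↔ Cfsg.classInner (fun n : N => (χ : G → ℂ) n) (θ : N → ℂ) ≠ 0) ∧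
      (∀ P : Sylow p G, Cfsg.IsDefectGroup p M B (P : Subgroup G)) ∧
      ∀ D : Subgroup G, Cfsg.IsDefectGroup p M B D → ∃ P : Sylow p G, D = (P : Subgroup G) := by
  classical
  obtain ⟨χ₀, hχ₀⟩ : ∃ χ : Cfsg.IrrCharacter G,
      Cfsg.classInner (Cfsg.indFun N (θ : N → ℂ)) χ ≠ 0 := by
    refine exists_constituent
      (Induced.Character.isCharacter_indFun N (isCharacter_irr θ)) fun h => ?_
    have h1 := congrFun h 1
    rw [indFun_one, Pi.zero_apply, mul_eq_zero, Nat.cast_eq_zero] at h1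
    exact h1.elim Subgroup.index_ne_zero_of_finite (apply_one_ne_zero θ)
  rw [frobenius_reciprocity N _ (isClassFunction_irr χ₀)] at hχ₀
  replace hχ₀ := classInner_ne_zero_symm hχ₀
  have hB : Cfsg.IsPBlock M (Cfsg.blockOf M (χ₀ : G → ℂ)) := ⟨χ₀, rfl⟩
  have hmem : ∀ χ : Cfsg.IrrCharacter G, χ ∈ Cfsg.blockOf M (χ₀ : G → ℂ) ↔
      Cfsg.classInner (fun n : N => (χ : G → ℂ) n) (θ : N → ℂ) ≠ 0 := fun χ =>
    ⟨fun h => FullDefect.mem_of_sameBlock N hM hNp θ hinv h hχ₀,
      fun h => sameBlock_over hM N hcent θ hinv χ₀ χ hχ₀ h⟩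
  exact ⟨_, hB, hmem, FullDefect.fullDefect N hM hNp θ hinv hB hmem⟩

end Cfsg.Agent.Lib.BlockOverCore.Main
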